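import Groth.Agent.H1ZeroLib.EmbedDim

/-!
# Embeddings by sections of a module whose section ring is generated in degree one
-/

set_option autoImplicit false
set_option backward.isDefEq.respectTransparency false
set_option backward.isDefEq.respectTransparency.types false
set_option linter.style.haveILetI false
set_option maxHeartbeats 1000000

universe u

open CategoryTheory CategoryTheory.Limits AlgebraicGeometry TopologicalSpace Opposite
open Groth.Agent.PullbackMod Groth.Agent.DCohLib Groth.Agent.ParaFLib Groth.Agent.AmpleLib Groth.Agent.H1ZeroLib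
open scoped TensorProduct

noncomputable section

namespace Groth.Agent.GenusOneLib

variable {X Y : Scheme.{u}}

/-- Induction over spans of products. -/
theorem tmul_induction {M N : X.Modules}
    (h : Submodule.span (X.ringCatSheaf.obj.obj (op ⊤))
      (Set.range (fun p : M.val.obj (op ⊤) × N.val.obj (op ⊤) => SecTwist.tmul M N ⊤ p.1 p.2)) = ⊤)
    (P : Γ(tmod M N, ⊤) → Prop) (hpair : ∀ a v, P (pairS M N a v)) (hzero : P 0)
    (hadd : ∀ x y, P x → P y → P (x + y)) (hsmul : ∀ (c : Γ(X, ⊤)) x, P x → P (c • x)) :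
    ∀ τ, P τ := fun τ => by
  have hτ : (show (CohB1.tensorMod M N).val.obj (op ⊤) from τ) ∈ Submodule.span (X.ringCatSheaf.obj.obj (op ⊤))
      (Set.range (fun p : M.val.obj (op ⊤) × N.val.obj (op ⊤) => SecTwist.tmul M N ⊤ p.1 p.2)) :=
    h ▸ Submodule.mem_top
  refine Submodule.span_induction (p := fun z _ => P z) ?_ hzero (fun x y _ _ => hadd x y) (fun c x _ => hsmul c x) hτ
  rintro _ ⟨⟨a, v⟩, rfl⟩
  exact hpair a v

theorem embGen_of_spans [IsAffine Y] (q : X ⟶ Y) [UniversallyClosed q] {A : X.Modules}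
    (hA : CohB1.IsAmple A) (hq : Function.Surjective q.appTop.hom)
    (hsp : ∀ j : ℕ, Submodule.span (X.ringCatSheaf.obj.obj (op ⊤))
      (Set.range (fun p : (CohB1.tensorPow A (j + 1)).val.obj (op ⊤) × A.val.obj (op ⊤) =>
        SecTwist.tmul (CohB1.tensorPow A (j + 1)) A ⊤ p.1 p.2)) = ⊤) {n : ℕ}
    (s : Fin (n + 1) → (Coh.structureModule X ⟶ A)) (hs : ∀ x, ∃ i, x ∈ CohB1.genLocus A (s i))
    (hspan : ∀ v : Γ(A, ⊤), ∃ r : Fin (n + 1) → Γ(Y, ⊤), v = ∑ b, (show Γ(X, ⊤) from q.appTop (r b)) • sec (s b)) :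
    RelVALib.EmbGen q s := by
  classical
  refine ⟨fun a => isAffineOpen_genLocus_of_universallyClosed q hA (s a), hs, fun a => ?_⟩
  haveI : CompactSpace X := hA.2.1
  haveI := quasiSeparatedSpace_of_isAmple hA
  set U := CohB1.genLocus A (s a) with hU
  set e := resT (sec (s a)) U with he
  intro t ht
  have ht' : ∀ b, t b • e = resT (sec (s b)) U := fun b => by
    have h := ht b
    unfold RelVALib.IsRatio at h
    exact h
  let ev := MvPolynomial.eval₂Hom (q.appLE ⊤ U (fun _ _ => trivial)).hom t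
  have key : ∀ (j : ℕ) (τ : Γ(CohB1.tensorPow A (j + 1), ⊤)),
      ∃ p, resT τ U = ev p • powLoc e (j + 1) := by
    intro j
    induction j with
    | zero =>
      intro τ
      haveI := isIso_pairLeft_one A
      obtain ⟨v, hv⟩ := (ConcreteCategory.bijective_of_isIso
        ((pairLeft (Coh.structureModule X) A (show Γ(Coh.structureModule X, ⊤) from (1 : Γ(X, ⊤)))).app ⊤)).2 τ
      obtain ⟨r, hr⟩ := hspan v
      refine ⟨∑ b, MvPolynomial.C (r b) * MvPolynomial.X b, ?_⟩
      have h1 : resT v U = ev (∑ b, MvPolynomial.C (r b) * MvPolynomial.X b) • e := by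
        rw [hr, resT, map_sum, map_sum, Finset.sum_smul]
        refine Finset.sum_congr rfl fun b _ => ?_
        rw [A.map_smul, map_mul, mul_smul]
        simp only [ev, MvPolynomial.eval₂Hom_C, MvPolynomial.eval₂Hom_X']
        rw [ht' b]
        rfl
      rw [← hv]
      show resT (pairS (Coh.structureModule X) A (resT (show Γ(Coh.structureModule X, ⊤) from (1 : Γ(X, ⊤))) ⊤) v) U =
        _ • pairS (Coh.structureModule X) A (powLoc e 0) e
      rw [resT, res_pairS, ← pairS_smul_right]
      refine congrArg₂ (pairS (Coh.structureModule X) A) ?_ h1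
      rw [resT, ParaFLib.res_res]
      exact map_one (X.presheaf.map (homOfLE (le_top : U ≤ ⊤)).op).hom
    | succ j ih =>
      intro τ
      refine tmul_induction (hsp j)
        (fun z => ∃ p, resT (show Γ(CohB1.tensorPow A (j + 1 + 1), ⊤) from z) U = ev p • powLoc e (j + 1 + 1))
        (fun a v => ?_) ?_ ?_ ?_ τ
      · obtain ⟨p, hp⟩ := ih a
        obtain ⟨r, hr⟩ := hspan v
        refine ⟨p * ∑ b, MvPolynomial.C (r b) * MvPolynomial.X b, ?_⟩
        have h1 : resT v U = ev (∑ b, MvPolynomial.C (r b) * MvPolynomial.X b) • e := by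
          rw [hr, resT, map_sum, map_sum, Finset.sum_smul]
          refine Finset.sum_congr rfl fun b _ => ?_
          rw [A.map_smul, map_mul, mul_smul]
          simp only [ev, MvPolynomial.eval₂Hom_C, MvPolynomial.eval₂Hom_X']
          rw [ht' b]
          rfl
        refine (res_pairS le_top a v).trans ?_
        show pairS (CohB1.tensorPow A (j + 1)) A (resT a U) (resT v U) =
          _ • pairS (CohB1.tensorPow A (j + 1)) A (powLoc e (j + 1)) e
        refine (congrArg₂ (pairS (CohB1.tensorPow A (j + 1)) A) hp h1).trans ?_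
        rw [pairS_smul_left, pairS_smul_right, smul_smul, map_mul]
      · exact ⟨0, by rw [resT, map_zero]; erw [map_zero]; exact (zero_smul _ _).symm⟩
      · rintro x y ⟨p, hp⟩ ⟨p', hp'⟩
        refine ⟨p + p', ?_⟩
        rw [map_add, add_smul, ← hp, ← hp']
        exact map_add ((CohB1.tensorPow A (j + 1 + 1)).presheaf.map (homOfLE (le_top : U ≤ ⊤)).op).hom x y
      · rintro c x ⟨p, hp⟩
        obtain ⟨r, hr⟩ := hq c
        refine ⟨MvPolynomial.C r * p, ?_⟩
        refine ((CohB1.tensorPow A (j + 1 + 1)).map_smul (homOfLE (le_top : U ≤ ⊤)) (show Γ(X, ⊤) from c) x).trans ?_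
        rw [map_mul, mul_smul, ← hp]
        refine congrArg (fun a : Γ(X, U) => a • resT x U) ?_
        simp only [ev, MvPolynomial.eval₂Hom_C]
        rw [← hr]
        rfl
  intro h
  obtain ⟨k, τ, hτ⟩ := exists_extend hA.1 (s a) h
  obtain ⟨p, hp⟩ := key k (pairS (CohB1.tensorPow A k) A (sec τ) (sec (s a)))
  have hinj : Function.Injective fun r : Γ(X, U) => r • powLoc e (k + 1) := fun r r' hrr => by
    refine ((gen_powLoc (gen_genLocus hA.1 (s a)) (k + 1)) U le_rfl).1 ?_
    change r • (CohB1.tensorPow A (k + 1)).presheaf.map (homOfLE (le_refl U)).op (powLoc e (k + 1)) =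
      r' • (CohB1.tensorPow A (k + 1)).presheaf.map (homOfLE (le_refl U)).op (powLoc e (k + 1))
    rw [ParaFLib.res_self]
    exact hrr
  refine ⟨p, hinj ?_⟩
  show ev p • powLoc e (k + 1) = h • powLoc e (k + 1)
  refine hp.symm.trans ?_
  refine (res_pairS le_top (sec τ) (sec (s a))).trans ?_
  show pairS (CohB1.tensorPow A k) A (resT (sec τ) U) e = h • pairS (CohB1.tensorPow A k) A (powLoc e k) e
  rw [hτ, pairS_smul_left]

theorem exists_closedImmersion_of_basis (k : Type u) [Field k] {X : Scheme.{u}} [X.Over (Spec (CommRingCat.of k))]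
    [IsProper (X ↘ Spec (CommRingCat.of k))] {A : X.Modules} (hA : CohB1.IsAmple A)
    (hgg : Curv2.IsGloballyGenerated A) (hq : Function.Surjective (X ↘ Spec (CommRingCat.of k)).appTop.hom)
    (hsp : ∀ j : ℕ, Submodule.span (X.ringCatSheaf.obj.obj (op ⊤))
      (Set.range (fun p : (CohB1.tensorPow A (j + 1)).val.obj (op ⊤) × A.val.obj (op ⊤) =>
        SecTwist.tmul (CohB1.tensorPow A (j + 1)) A ⊤ p.1 p.2)) = ⊤) {d : ℕ}
    (hd : Module.finrank k (Coh.HH X A 0) = d + 1) :
    ∃ i : X ⟶ CohB1.ProjSpace d k, IsClosedImmersion i ∧ i ≫ CohB1.ProjSpace.toSpec d k = X ↘ (Spec (CommRingCat.of k)) ∧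
      Nonempty ((Scheme.Modules.pullback i).obj (Twist.twistProjSpace d k 1) ≅ A) := by
  haveI := EulerIneqLib.isNoetherian_proper (X := X) k
  haveI := EulerIneqLib.finite_HH (k := k) (CurveLib.isCoh_of_isInvertible hA.1) 0
  let b := Module.finBasisOfFinrankEq k (Coh.HH X A 0) hd
  let s : Fin (d + 1) → (Coh.structureModule X ⟶ A) := fun i => DCohLib.secHom A (CurveLib.secOf A (b i))
  have hspan : ∀ v : Γ(A, ⊤), ∃ r : Fin (d + 1) → Γ(Spec (CommRingCat.of k), ⊤),
      v = ∑ i, (show Γ(X, ⊤) from (X ↘ Spec (CommRingCat.of k)).appTop (r i)) • sec (s i) := fun v => by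
    refine ⟨fun i => (Scheme.ΓSpecIso (CommRingCat.of k)).inv (b.repr ((CurveLib.secOf A).symm v) i), ?_⟩
    simp only [s, AmpleLib.sec_secHom]
    conv_lhs => rw [← (CurveLib.secOf A).apply_symm_apply v, ← b.sum_repr ((CurveLib.secOf A).symm v), map_sum]
    refine Finset.sum_congr rfl fun i _ => ?_
    rw [CurveLib.secOf_smul]
    rfl
  refine exists_closedImmersion_of_embGen k _ hA.1 s (embGen_of_spans _ hA hq hsp s (fun x => ?_) hspan)
  by_contra hne
  push Not at hne
  obtain ⟨r, σ, hσ⟩ := exists_fin_genLocus (k := k) hA.1 hgg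
  obtain ⟨i, hi⟩ := hσ x
  obtain ⟨c, hc⟩ := hspan (sec (σ i))
  rw [AmpleLib.mem_genLocus_iff hA.1, hc] at hi
  obtain ⟨e, he⟩ := ParaFLib.exists_stalk_gen hA.1 x
  choose a ha using fun j => he.2 (A.presheaf.germ ⊤ x trivial (sec (s j)))
  dsimp only at ha
  have ham : ∀ j, a j ∈ IsLocalRing.maximalIdeal (X.presheaf.stalk x) := fun j hu => hne j (by
    rw [AmpleLib.mem_genLocus_iff hA.1, ← ha j]
    exact (AmpleLib.bijective_smul_iff he _).2 hu)
  let C : Fin (d + 1) → X.presheaf.stalk x := fun j =>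
    X.presheaf.germ ⊤ x trivial ((X ↘ Spec (CommRingCat.of k)).appTop (c j))
  have hsum : A.presheaf.germ ⊤ x trivial
      (∑ j, (show Γ(X, ⊤) from (X ↘ Spec (CommRingCat.of k)).appTop (c j)) • sec (s j)) = (∑ j, C j * a j) • e := by
    rw [map_sum, Finset.sum_smul]
    refine Finset.sum_congr rfl fun j _ => ?_
    rw [ParaFLib.germ_smul', ← ha j, smul_smul]
  rw [hsum] at hi
  exact ((IsLocalRing.maximalIdeal _).sum_mem fun j _ => Ideal.mul_mem_left _ (C j) (ham j) :
    _ ∈ IsLocalRing.maximalIdeal (X.presheaf.stalk x)) ((AmpleLib.bijective_smul_iff he _).1 hi)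

end Groth.Agent.GenusOneLib
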