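import Groth.Agent.SingRRLib.GenusOne
import Groth.Agent.H1ZeroLib.SpanSec
import Groth.Agent.H1ZeroLib.Coh
import Groth.Agent.VBLib.CurveDual
import Groth.Agent.QCohAffine.Smul
import Mathlib.GroupTheory.CosetCover

/-!
# Quadratic normality of curves of genus one
-/

set_option autoImplicit false
set_option backward.isDefEq.respectTransparency false
set_option backward.isDefEq.respectTransparency.types false
set_option linter.style.haveILetI false
set_option maxHeartbeats 2000000

universe u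

open CategoryTheory CategoryTheory.Limits AlgebraicGeometry TopologicalSpace Opposite
open Groth.Agent.PullbackMod Groth.Agent.DCohLib Groth.Agent.CurveLib
open scoped TensorProduct

noncomputable section

namespace Groth.Agent.GenusOneLib

variable {X : Scheme.{u}}

theorem stalk_pairLeft (M N : X.Modules) (σ : Γ(M, ⊤)) (x : X) (v : N.presheaf.stalk x) :
    stalkLin (H1ZeroLib.pairLeft M N σ) x v =
      stalkTensor x M N (M.presheaf.germ ⊤ x trivial σ ⊗ₜ[X.presheaf.stalk x] v) := by
  obtain ⟨U, hxU, m, rfl⟩ := TopCat.Presheaf.exists_germ_eq N.presheaf v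
  rw [stalkLin_germ]
  show (tmod M N).presheaf.germ U x hxU (pairS M N (AmpleLib.resT σ U) m) = _
  rw [← stalkTensorHom_tmul x hxU (AmpleLib.resT σ U) m]
  refine congrArg (fun w => stalkTensor x M N (w ⊗ₜ[X.presheaf.stalk x] N.presheaf.germ U x hxU m)) ?_
  exact TopCat.Presheaf.germ_res_apply M.presheaf (homOfLE (le_top : U ≤ ⊤)) x hxU σ

theorem germ_app {M N : X.Modules} (f : M ⟶ N) (v : Γ(M, ⊤)) (x : X) :
    N.presheaf.germ ⊤ x trivial (f.app ⊤ v) = stalkLin f x (M.presheaf.germ ⊤ x trivial v) :=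
  (stalkLin_germ f (U := ⊤) x trivial v).symm

/-- A section of a tensor product of two copies of an invertible module is symmetric. -/
theorem pairLeft_symm {L M : X.Modules} (hL : PicF.IsInvertible L) (u : L ⟶ M) (v w : Γ(L, ⊤)) :
    (H1ZeroLib.pairLeft M L (u.app ⊤ v)).app ⊤ w = (H1ZeroLib.pairLeft M L (u.app ⊤ w)).app ⊤ v := by
  refine TopCat.Presheaf.section_ext (⟨(tmod M L).presheaf, (tmod M L).isSheaf⟩ : TopCat.Sheaf Ab X) ⊤ _ _ fun x hx => ?_
  show (tmod M L).presheaf.germ ⊤ x trivial _ = (tmod M L).presheaf.germ ⊤ x trivial _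
  rw [germ_app, germ_app, stalk_pairLeft, stalk_pairLeft, germ_app, germ_app]
  obtain ⟨e, he⟩ := ParaFLib.exists_stalk_gen hL x
  obtain ⟨a, ha⟩ := he.2 (L.presheaf.germ ⊤ x trivial v)
  obtain ⟨b, hb⟩ := he.2 (L.presheaf.germ ⊤ x trivial w)
  dsimp only at ha hb
  rw [← ha, ← hb, map_smul, map_smul, TensorProduct.smul_tmul_smul, TensorProduct.smul_tmul_smul, mul_comm]

variable {k : Type u} [Field k] [X.Over (Spec (CommRingCat.of k))] [IsProper (X ↘ Spec (CommRingCat.of k))]
  [IsIntegral X]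

include k in
/-- A section generating at finitely many given points. -/
theorem exists_gen_finite [Infinite k] {L : X.Modules} (hL : PicF.IsInvertible L)
    (hgg : Curv2.IsGloballyGenerated L) {D : Set X} (hD : D.Finite) :
    ∃ t : Γ(L, ⊤), ∀ x ∈ D, x ∈ CohB1.genLocus L (DCohLib.secHom L t) := by
  classical
  choose e he using fun x => ParaFLib.exists_stalk_gen hL x
  let B : X → Submodule k (Coh.HH X L 0) := fun x =>
    { carrier := {c | ∃ a ∈ IsLocalRing.maximalIdeal (X.presheaf.stalk x),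
        L.presheaf.germ ⊤ x trivial (secOf L c) = a • e x}
      add_mem' := by
        rintro c c' ⟨a, ha, h⟩ ⟨a', ha', h'⟩
        exact ⟨a + a', add_mem ha ha', by rw [map_add, map_add, h, h', add_smul]⟩
      zero_mem' := ⟨0, zero_mem _, by rw [map_zero, map_zero, zero_smul]⟩
      smul_mem' := by
        rintro r c ⟨a, ha, h⟩
        refine ⟨X.presheaf.germ ⊤ x trivial (Coh.toGlobal (X ↘ Spec (CommRingCat.of k)) r) * a,
          Ideal.mul_mem_left _ _ ha, ?_⟩
        rw [secOf_smul, ParaFLib.germ_smul', h, mul_smul] }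
  have hB : (⊤ : Submodule k (Coh.HH X L 0)) ∉ hD.toFinset.image B := by
    simp only [Finset.mem_image, not_exists, not_and]
    intro x _ hx
    obtain ⟨s, hs⟩ := AmpleLib.exists_genLocus_of_isGloballyGenerated hL hgg x
    rw [AmpleLib.mem_genLocus_iff hL] at hs
    obtain ⟨a, ha, h⟩ : (secOf L).symm (AmpleLib.sec s) ∈ B x := hx ▸ Submodule.mem_top
    rw [AddEquiv.apply_symm_apply] at h
    rw [h] at hs
    exact ha ((AmpleLib.bijective_smul_iff (he x) a).1 hs)
  have hne := Subspace.biUnion_ne_univ_of_top_notMem hB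
  obtain ⟨c, hc⟩ := (Set.ne_univ_iff_exists_notMem _).1 hne
  refine ⟨secOf L c, fun x hx => by_contra fun hn => hc ?_⟩
  refine Set.mem_biUnion (x := B x) (by simpa using Finset.mem_image_of_mem B (hD.mem_toFinset.2 hx)) ?_
  rw [AmpleLib.mem_genLocus_iff hL, AmpleLib.sec_secHom] at hn
  obtain ⟨a, ha⟩ := (he x).2 (L.presheaf.germ ⊤ x trivial (secOf L c))
  refine ⟨a, fun hu => hn ?_, ha.symm⟩
  rw [← ha]
  exact (AmpleLib.bijective_smul_iff (he x) a).2 hu

omit [IsProper (X ↘ Spec (CommRingCat.of k))] in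
/-- The image of the sections in those of a quotient. -/
theorem finrank_range_seq {S : ShortComplex X.Modules} (hS : S.ShortExact) [Module.Finite k (Coh.HH X S.X₂ 0)] :
    Module.finrank k (LinearMap.range (hMap (k := k) S.g 0)) + Module.finrank k (Coh.HH X S.X₁ 0) =
      Module.finrank k (Coh.HH X S.X₂ 0) := by
  have h := LinearMap.finrank_range_add_finrank_ker (hMap (k := k) S.g 0)
  have h1 := LinearMap.finrank_range_of_inj (hMap_f_zero_injective (k := k) hS)
  rw [range_hMap_f (k := k) hS 0] at h1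
  omega

omit [IsProper (X ↘ Spec (CommRingCat.of k))] in
theorem finrank_range_coker {A B : X.Modules} (s : A ⟶ B) [Mono s] [hfin : Module.Finite k (Coh.HH X B 0)] :
    Module.finrank k (LinearMap.range (hMap (k := k) (cokernel.π s) 0)) + Module.finrank k (Coh.HH X A 0) =
      Module.finrank k (Coh.HH X B 0) :=
  @finrank_range_seq X k _ _ _ (DevLib.cokerSeq s) (DevLib.cokerSeq_shortExact s) hfin

/-- Multiplication by a non-zero section is injective, and by a section generating along its zeros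
an isomorphism of the cokernels. -/
theorem isIso_desc {L M : X.Modules} (hL : PicF.IsInvertible L) (u : L ⟶ M) [IsIso u] (σ₀ t : Γ(L, ⊤))
    [Mono (DCohLib.secHom L σ₀)]
    (ht : ∀ x ∈ CohB1.support (cokernel (DCohLib.secHom L σ₀)), x ∈ CohB1.genLocus L (DCohLib.secHom L t))
    (gbt : cokernel (DCohLib.secHom L σ₀) ⟶ cokernel (H1ZeroLib.pairLeft M L (u.app ⊤ σ₀)))
    (hgb : cokernel.π (DCohLib.secHom L σ₀) ≫ gbt =
      H1ZeroLib.pairLeft M L (u.app ⊤ t) ≫ cokernel.π (H1ZeroLib.pairLeft M L (u.app ⊤ σ₀))) :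
    Mono (H1ZeroLib.pairLeft M L (u.app ⊤ σ₀)) ∧ IsIso gbt := by
  let s : Coh.structureModule X ⟶ L := DCohLib.secHom L σ₀
  let g : Γ(L, ⊤) → (L ⟶ tmod M L) := fun v => H1ZeroLib.pairLeft M L (u.app ⊤ v)
  let f₂ : L ⟶ tmod M L := g σ₀
  let Q := cokernel s
  let D := CohB1.support Q
  let Q₂ := cokernel f₂
  let π : L ⟶ Q := cokernel.π s
  let π₂ : tmod M L ⟶ Q₂ := cokernel.π f₂
  have hgen : ∀ x, x ∉ D → Function.Surjective (stalkLin s x) := fun x hx z => by
    haveI : Subsingleton (Q.presheaf.stalk x) := not_not.1 hx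
    exact (DevLib.coker_exact s x z).1 (Subsingleton.elim _ _)
  haveI hm2 : Mono f₂ := (mono_iff_stalk f₂).2 fun x => (injective_iff_map_eq_zero _).2 fun z hz => by
    obtain ⟨e, he⟩ := ParaFLib.exists_stalk_gen hL x
    obtain ⟨a₀, ha₀⟩ := he.2 (L.presheaf.germ ⊤ x trivial σ₀)
    obtain ⟨b, rfl⟩ := he.2 z
    dsimp only at ha₀ hz ⊢
    have hue : Function.Bijective fun r : X.presheaf.stalk x => r • stalkLin u x e := by
      have : (fun r : X.presheaf.stalk x => r • stalkLin u x e) = stalkLin u x ∘ fun r => r • e :=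
        funext fun r => (map_smul _ r e).symm
      rw [this]
      exact ((isIso_iff_stalk u).1 inferInstance x).comp he
    have ha0 : a₀ ≠ 0 := fun h0 => by
      have h1 : stalkLin s x (ParaFLib.oneG x) = 0 := by
        show stalkLin s x ((Coh.structureModule X).presheaf.germ ⊤ x trivial _) = 0
        rw [stalkLin_germ]
        refine (congrArg _ (AmpleLib.sec_secHom σ₀)).trans ?_
        rw [← ha₀, h0, zero_smul]
      have h2 := (mono_iff_stalk s).1 inferInstance x (h1.trans (map_zero _).symm)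
      exact one_ne_zero ((ParaFLib.bijective_oneG x).1 (((one_smul _ _).trans h2).trans (zero_smul _ _).symm))
    have h3 : stalkLin (H1ZeroLib.pairLeft M L (u.app ⊤ σ₀)) x (b • e) = 0 := hz
    rw [stalk_pairLeft, germ_app, ← ha₀, map_smul, TensorProduct.smul_tmul_smul, map_smul] at h3
    rw [(mul_eq_zero.1 ((AmpleLib.bijective_stalkTensor hue he).1 (h3.trans (zero_smul _ _).symm))).resolve_left ha0,
      zero_smul]
  refine ⟨hm2, ?_⟩
  haveI := hm2
  exact show IsIso gbt from by
    refine (isIso_iff_stalk _).2 fun x => ?_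
    obtain ⟨e, he⟩ := ParaFLib.exists_stalk_gen hL x
    let ue := stalkLin u x e
    have hue : Function.Bijective fun r : X.presheaf.stalk x => r • ue := by
      have : (fun r : X.presheaf.stalk x => r • ue) = stalkLin u x ∘ fun r => r • e := funext fun r => (map_smul _ r e).symm
      rw [this]
      exact ((isIso_iff_stalk u).1 inferInstance x).comp he
    have hbee : Function.Bijective fun r : X.presheaf.stalk x => r • stalkTensor x M L (ue ⊗ₜ[X.presheaf.stalk x] e) :=
      AmpleLib.bijective_stalkTensor hue he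
    have hg' : ∀ v a, L.presheaf.germ ⊤ x trivial v = a • e → ∀ b,
        stalkLin (g v) x (b • e) = (a * b) • stalkTensor x M L (ue ⊗ₜ[X.presheaf.stalk x] e) := fun v a hv b => by
      show stalkLin (H1ZeroLib.pairLeft M L (u.app ⊤ v)) x _ = _
      rw [stalk_pairLeft, germ_app, hv, map_smul, TensorProduct.smul_tmul_smul, map_smul]
    obtain ⟨a₀, ha₀⟩ := he.2 (L.presheaf.germ ⊤ x trivial σ₀)
    obtain ⟨at', hat⟩ := he.2 (L.presheaf.germ ⊤ x trivial t)
    dsimp only at ha₀ hat
    by_cases hxD : x ∈ D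
    · have hu : IsUnit at' := by
        have h := ht x hxD
        rw [AmpleLib.mem_genLocus_iff hL, AmpleLib.sec_secHom, ← hat] at h
        exact (AmpleLib.bijective_smul_iff he at').1 h
      constructor
      · refine (injective_iff_map_eq_zero _).2 fun q hq => ?_
        obtain ⟨z, rfl⟩ := DevLib.coker_surjective s x q
        obtain ⟨b, rfl⟩ := he.2 z
        dsimp only at hq ⊢
        have h1 : stalkLin π₂ x (stalkLin (g t) x (b • e)) = 0 := by
          rw [← LinearMap.comp_apply, ← stalkLin_comp, ← hgb, stalkLin_comp, LinearMap.comp_apply]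
          exact hq
        obtain ⟨y, hy⟩ := (DevLib.coker_exact f₂ x _).1 h1
        obtain ⟨c, rfl⟩ := he.2 y
        dsimp only at hy
        rw [hg' t at' hat.symm b, hg' σ₀ a₀ ha₀.symm c] at hy
        obtain ⟨a', rfl⟩ := hu
        have hbc : b = (↑a'⁻¹ * c) * a₀ := by
          have := hbee.1 hy
          calc b = ↑a'⁻¹ * (↑a' * b) := (Units.inv_mul_cancel_left a' b).symm
            _ = _ := by rw [← this]; ring
        refine (DevLib.coker_exact s x _).2 ?_
        refine ⟨(↑a'⁻¹ * c) • ParaFLib.oneG x, ?_⟩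
        rw [map_smul, hbc, mul_smul (↑a'⁻¹ * c) a₀ e, ha₀]
        refine congrArg _ ?_
        show stalkLin s x ((Coh.structureModule X).presheaf.germ ⊤ x trivial _) = _
        rw [stalkLin_germ]
        exact congrArg _ (AmpleLib.sec_secHom σ₀)
      · intro q
        obtain ⟨z, rfl⟩ := DevLib.coker_surjective f₂ x q
        obtain ⟨r, rfl⟩ := hbee.2 z
        obtain ⟨a', rfl⟩ := hu
        refine ⟨stalkLin π x ((↑a'⁻¹ * r) • e), ?_⟩
        rw [← LinearMap.comp_apply, ← stalkLin_comp, hgb, stalkLin_comp, LinearMap.comp_apply,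
          hg' t _ hat.symm, Units.mul_inv_cancel_left]
    · haveI : Subsingleton (Q.presheaf.stalk x) := not_not.1 hxD
      haveI : Subsingleton (Q₂.presheaf.stalk x) := by
        refine subsingleton_of_forall_eq 0 fun q => ?_
        obtain ⟨z, rfl⟩ := DevLib.coker_surjective f₂ x q
        refine (DevLib.coker_exact f₂ x z).2 ?_
        obtain ⟨y, hy⟩ := hgen x hxD e
        have hua : IsUnit a₀ := by
          obtain ⟨r, rfl⟩ := (ParaFLib.bijective_oneG x).2 y
          dsimp only at hy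
          rw [map_smul] at hy
          have h2 : stalkLin s x (ParaFLib.oneG x) = a₀ • e := by
            rw [ha₀]
            show stalkLin s x ((Coh.structureModule X).presheaf.germ ⊤ x trivial _) = _
            rw [stalkLin_germ]
            exact congrArg _ (AmpleLib.sec_secHom σ₀)
          rw [h2, smul_smul] at hy
          exact isUnit_iff_exists_inv'.2 ⟨r, he.1 (hy.trans (one_smul _ e).symm)⟩
        obtain ⟨r, rfl⟩ := hbee.2 z
        obtain ⟨a', rfl⟩ := hua
        exact ⟨(↑a'⁻¹ * r) • e, by rw [hg' σ₀ _ ha₀.symm, Units.mul_inv_cancel_left]⟩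
      exact ⟨fun a b _ => Subsingleton.elim a b, fun b => ⟨0, Subsingleton.elim _ _⟩⟩

/-- Two copies of a module of degree at least three on a curve of genus one have sections spanning
those of the square. -/
theorem exists_products (hdim : topologicalKrullDim X ≤ 1) (hg : Curv2.genus k X = 1) [Infinite k]
    {L : X.Modules} (hL : PicF.IsInvertible L) (hdeg : 3 ≤ Curv2.deg k X L 1)
    {M : X.Modules} (hM : PicF.IsInvertible M) (u : L ⟶ M) [IsIso u] :
    (⨆ v : Γ(L, ⊤), LinearMap.range (hMap (k := k) (H1ZeroLib.pairLeft M L (u.app ⊤ v)) 0)) = ⊤ := by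
  haveI := EulerIneqLib.isNoetherian_proper (X := X) k
  have h0 := SingRRLib.h0_eq_one_of_genus_one (k := k) hdim hg
  have hgg := SingRRLib.isGloballyGenerated_of_genus_one (k := k) hdim hg hL (by omega)
  have hO : Coh.IsCoh (Coh.structureModule X) := DevLib.isCoh_structureModule X
  have hLc := isCoh_of_isInvertible hL
  have hMLi : PicF.IsInvertible (tmod M L) := AmpleLib.isInvertible_tensor hM hL
  have hMLc := isCoh_of_isInvertible hMLi
  have hdegM : Curv2.deg k X M 1 = Curv2.deg k X L 1 := (CurveLib.deg_iso (k := k) (asIso u) 1).symm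
  have hdegML : Curv2.deg k X (tmod M L) 1 = 2 * Curv2.deg k X L 1 := by
    have := CurveLib.deg_tensor_add (k := k) hdim hM hL
    refine this.trans ?_
    rw [hdegM]; ring
  haveI hL1 := SingRRLib.subsingleton_H1_of_deg k hdim h0 hL (by omega)
  haveI := EulerIneqLib.finite_HH (k := k) hLc 0
  haveI := EulerIneqLib.finite_HH (k := k) hMLc 0
  have hhL : (Module.finrank k (Coh.HH X L 0) : ℤ) = Curv2.deg k X L 1 := by
    have h := SingRRLib.euler_eq_deg k hdim h0 L
    rw [euler_eq_sub (k := k) hdim, Module.finrank_zero_of_subsingleton (R := k) (M := Coh.HH X L 1), hg] at h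
    push_cast at h
    omega
  -- a section and its cokernel
  obtain ⟨c₀, hc₀⟩ : ∃ c : Coh.HH X L 0, c ≠ 0 := by
    haveI : Nontrivial (Coh.HH X L 0) := Module.nontrivial_of_finrank_pos (R := k) (by omega)
    exact exists_ne 0
  let σ₀ : Γ(L, ⊤) := secOf L c₀
  let s : Coh.structureModule X ⟶ L := DCohLib.secHom L σ₀
  obtain ⟨hdegQ, hDc, hDd, hQc, hsm⟩ := deg_eq_add_coker (k := k) hdim ParaFLib.isInvertible_structureModule hL
    (secHom_secOf_ne_zero L hc₀)
  haveI := hsm
  let Q := cokernel s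
  let D := CohB1.support Q
  have hdO : Curv2.deg k X (Coh.structureModule X) 1 = 0 := CurveLib.deg_structureModule (k := k)
  haveI := EulerIneqLib.finite_HH (k := k) hQc 0
  haveI hQ1 : Subsingleton (Coh.HH X Q 1) := CurveLib.subsingleton_HH_of_support _ hDc (d := 0) (p := 1) (hd := hDd) (hp := one_pos) (hM := subset_rfl)
  have hDfin : D.Finite := finite_of_dim_le_zero hDc hDd
  obtain ⟨t, ht⟩ := exists_gen_finite (k := k) hL hgg hDfin
  let g : Γ(L, ⊤) → (L ⟶ tmod M L) := fun v => H1ZeroLib.pairLeft M L (u.app ⊤ v)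
  have hsym : ∀ v w, (g v).app ⊤ w = (g w).app ⊤ v := fun v w => pairLeft_symm hL u v w
  let f₂ : L ⟶ tmod M L := g σ₀
  let Q₂ := cokernel f₂
  let π : L ⟶ Q := cokernel.π s
  let π₂ : tmod M L ⟶ Q₂ := cokernel.π f₂
  have hπ₂ : f₂ ≫ π₂ = 0 := cokernel.condition f₂
  have hw : ∀ v, s ≫ g v ≫ π₂ = 0 := fun v => by
    refine DCohLib.hom_unit_ext ?_
    show π₂.app ⊤ ((g v).app ⊤ (AmpleLib.sec s)) = _
    rw [show AmpleLib.sec s = σ₀ from AmpleLib.sec_secHom _, hsym]
    show (f₂ ≫ π₂).app ⊤ v = _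
    rw [hπ₂]; rfl
  let gb : Γ(L, ⊤) → (Q ⟶ Q₂) := fun v => cokernel.desc s (g v ≫ π₂) (hw v)
  have hgb : ∀ v, π ≫ gb v = g v ≫ π₂ := fun v => cokernel.π_desc _ _ _
  obtain ⟨hm₂, hiso⟩ := isIso_desc hL u σ₀ t ht (gb t) (hgb t)
  haveI := hm₂
  haveI := hiso
  -- dimensions
  have hhQ : (Module.finrank k (Coh.HH X Q 0) : ℤ) = Curv2.deg k X L 1 := by
    rw [hdO, zero_add] at hdegQ
    exact hdegQ.symm
  let V := LinearMap.range (hMap (k := k) π 0)
  have hV : Module.finrank k V + 1 = Module.finrank k (Coh.HH X L 0) := by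
    have h := finrank_range_coker (k := k) s
    rwa [h0] at h
  have hmul : ∀ v w, hMap (k := k) (gb v) 0 (hMap (k := k) π 0 w) = hMap (k := k) π₂ 0 (hMap (k := k) (g v) 0 w) :=
    fun v w => by rw [← VBLib.Dual.hMap_comp, hgb, VBLib.Dual.hMap_comp]
  let e : Coh.HH X Q 0 ≃ₗ[k] Coh.HH X Q₂ 0 := LinearEquiv.ofBijective _ (hMap_bijective_iso (k := k) (asIso (gb t)) 0)
  -- the argument
  let S := ⨆ v : Γ(L, ⊤), LinearMap.range (hMap (k := k) (g v) 0)
  have hker : LinearMap.ker (hMap (k := k) π₂ 0) ≤ S := by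
    intro z hz
    exact Submodule.mem_iSup_of_mem σ₀ ((range_hMap_f (k := k) (DevLib.cokerSeq_shortExact f₂) 0).ge hz)
  refine eq_top_iff.2 fun z _ => ?_
  let P := (S.map (hMap (k := k) π₂ 0)).comap e.toLinearMap
  suffices hP : P = ⊤ by
    obtain ⟨y, hyS, hy⟩ : hMap (k := k) π₂ 0 z ∈ S.map (hMap (k := k) π₂ 0) := by
      have : e.symm (hMap (k := k) π₂ 0 z) ∈ P := hP ▸ Submodule.mem_top
      rwa [Submodule.mem_comap, LinearEquiv.coe_coe, e.apply_symm_apply] at this
    rw [← sub_add_cancel z y]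
    exact S.add_mem (hker (by rw [LinearMap.mem_ker, map_sub, hy, sub_self])) hyS
  have hVP : V ≤ P := by
    rintro _ ⟨w, rfl⟩
    exact ⟨hMap (k := k) (g t) 0 w, Submodule.mem_iSup_of_mem t ⟨w, rfl⟩, (hmul t w).symm⟩
  by_contra hP
  have hPV : P = V := by
    refine (Submodule.eq_of_le_of_finrank_le hVP ?_).symm
    have := Submodule.finrank_lt hP
    omega
  -- operators on the cokernel
  let ρ : Γ(L, ⊤) → (Q ⟶ Q) := fun v => gb v ≫ inv (gb t)
  have hρ : ∀ v w, hMap (k := k) (ρ v) 0 (hMap (k := k) π 0 w) ∈ V := fun v w => by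
    rw [← hPV, Submodule.mem_comap]
    refine ⟨hMap (k := k) (g v) 0 w, Submodule.mem_iSup_of_mem v ⟨w, rfl⟩, ?_⟩
    show _ = hMap (k := k) (gb t) 0 (hMap (k := k) (gb v ≫ inv (gb t)) 0 (hMap (k := k) π 0 w))
    rw [← hmul, ← VBLib.Dual.hMap_comp (k := k) (gb v ≫ inv (gb t)) (gb t), Category.assoc, IsIso.inv_hom_id,
      Category.comp_id]
  let tt : Coh.HH X Q 0 := hMap (k := k) π 0 ((secOf L).symm t)
  have htt : ∀ v, hMap (k := k) (ρ v) 0 tt = hMap (k := k) π 0 ((secOf L).symm v) := fun v => by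
    refine (hMap_bijective_iso (k := k) (asIso (gb t)) 0).1 ?_
    show hMap (k := k) (gb t) 0 (hMap (k := k) (ρ v) 0 tt) = hMap (k := k) (gb t) 0 _
    rw [← VBLib.Dual.hMap_comp, Category.assoc, IsIso.inv_hom_id, Category.comp_id, hmul, hmul]
    refine congrArg _ ((secOf _).injective ?_)
    rw [secOf_hMap, secOf_hMap, AddEquiv.apply_symm_apply, AddEquiv.apply_symm_apply]
    exact hsym v t
  have httV : tt ∈ V := ⟨_, rfl⟩
  obtain ⟨e₁, he₁⟩ : ∃ e₁, e₁ ∉ V := by
    by_contra hh
    push Not at hh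
    exact hP (eq_top_iff.2 fun z _ => hVP (hh z))
  have hsplit : ∀ q : Coh.HH X Q 0, ∃ c : k, q - c • e₁ ∈ V := fun q => by
    have hle : V ⊔ Submodule.span k {e₁} = ⊤ := by
      refine Submodule.eq_top_of_finrank_eq (le_antisymm (Submodule.finrank_le _) ?_)
      have hlt : V < V ⊔ Submodule.span k {e₁} :=
        lt_of_le_of_ne le_sup_left fun h => he₁ (h ▸ Submodule.mem_sup_right (Submodule.mem_span_singleton_self e₁))
      have := Submodule.finrank_lt_finrank_of_lt hlt
      omega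
    obtain ⟨a, ha, b, hb, rfl⟩ := Submodule.mem_sup.1 (hle ▸ Submodule.mem_top : q ∈ _)
    obtain ⟨c, rfl⟩ := Submodule.mem_span_singleton.1 hb
    exact ⟨c, by simpa using ha⟩
  obtain ⟨v₁, hv₁⟩ : ∃ v, hMap (k := k) π 0 ((secOf L).symm v) ∉ Submodule.span k {tt} := by
    by_contra hh
    push Not at hh
    have hle : V ≤ Submodule.span k {tt} := by
      rintro _ ⟨w, rfl⟩
      have := hh (secOf L w)
      rwa [AddEquiv.symm_apply_apply] at this
    have := (Submodule.finrank_mono hle).trans (finrank_span_le_card ({tt} : Set _))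
    simp at this
    omega
  obtain ⟨c, hc⟩ := hsplit (hMap (k := k) (ρ v₁) 0 e₁)
  let a : Γ(X, ⊤) := Coh.toGlobal (X ↘ Spec (CommRingCat.of k)) c
  let ρ' : Q ⟶ Q := ρ v₁ - QCohAffine.mulBy a Q
  have hρ' : ∀ q, hMap (k := k) ρ' 0 q = hMap (k := k) (ρ v₁) 0 q - c • q := fun q => by
    refine (secOf Q).injective ?_
    rw [map_sub, secOf_hMap, secOf_hMap, secOf_smul]
    show (ρ v₁).app ⊤ _ - (QCohAffine.mulBy a Q).app ⊤ _ = _
    rw [QCohAffine.mulBy_app]
    refine congrArg (fun r : Γ(X, ⊤) => (ρ v₁).app ⊤ (secOf Q q) - r • secOf Q q) ?_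
    exact DFunLike.congr_fun (congrArg CommRingCat.Hom.hom (X.presheaf.map_id _)) a
  have hρ'V : LinearMap.range (hMap (k := k) ρ' 0) ≤ V := by
    rintro _ ⟨q, rfl⟩
    obtain ⟨b, hb⟩ := hsplit q
    obtain ⟨w, hw'⟩ := hb
    rw [show q = (q - b • e₁) + b • e₁ by abel, ← hw', map_add, map_smul, hρ', hρ']
    exact V.add_mem (V.sub_mem (hρ v₁ w) (V.smul_mem c ⟨w, rfl⟩)) (V.smul_mem b hc)
  have hne : hMap (k := k) ρ' 0 tt ≠ 0 := by
    rw [hρ', htt, sub_ne_zero]
    intro h
    exact hv₁ (h ▸ Submodule.smul_mem _ c (Submodule.mem_span_singleton_self tt))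
  let C := cokernel ρ'
  let πC : Q ⟶ C := cokernel.π ρ'
  have hπC : ∀ x, Function.Surjective (stalkLin πC x) := (epi_iff_stalk πC).1 inferInstance
  have hsC : CohB1.support C ⊆ D := fun x hx h => hx (by
    haveI : Subsingleton (Q.presheaf.stalk x) := h
    exact (hπC x).subsingleton)
  let K := kernel πC
  have hK : CohB1.support K ⊆ D := fun x hx h => hx (by
    haveI : Subsingleton (Q.presheaf.stalk x) := h
    exact ((mono_iff_stalk (kernel.ι πC)).1 inferInstance x).subsingleton)
  haveI hK1 : Subsingleton (Coh.HH X K 1) := CurveLib.subsingleton_HH_of_support _ hDc (d := 0) (p := 1) (hd := hDd) (hp := one_pos) (hM := hK)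
  let l : Q ⟶ K := Abelian.factorThruImage ρ'
  have hl : ∀ x, Function.Surjective (stalkLin l x) :=
    (epi_iff_stalk l).1 (inferInstanceAs (Epi (Abelian.factorThruImage ρ')))
  haveI : Subsingleton (Coh.HH X (kernel l) 1) := CurveLib.subsingleton_HH_of_support _ hDc (d := 0) (p := 1) (hd := hDd) (hp := one_pos) (hM := fun x hx h => hx (by
    haveI : Subsingleton (Q.presheaf.stalk x) := h
    exact ((mono_iff_stalk (kernel.ι l)).1 inferInstance x).subsingleton))
  have hkerC : ∀ q, hMap (k := k) πC 0 q = 0 → q ∈ V := fun q hq => by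
    obtain ⟨y, rfl⟩ := (range_hMap_f (k := k) (H1ZeroLib.kerSeq_shortExact πC hπC) 0).ge (LinearMap.mem_ker.2 hq)
    obtain ⟨z, rfl⟩ := H1ZeroLib.surjective_H0 (k := k) l hl y
    refine hρ'V ⟨z, ?_⟩
    show _ = hMap (k := k) (kernel.ι πC) 0 _
    rw [← VBLib.Dual.hMap_comp]
    exact congrArg (fun f => hMap (k := k) f 0 z) (Abelian.image.fac ρ').symm
  have hsurjC : Function.Surjective (hMap (k := k) πC 0) := H1ZeroLib.surjective_H0 (k := k) πC hπC
  have hCc : Coh.IsCoh C := (QCohLib.isCoh_kernel_cokernel ρ' hQc hQc).2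
  let q : L ⟶ C := π ≫ πC
  have hq : ∀ x, Function.Surjective (stalkLin q x) := fun x => by
    rw [stalkLin_comp, LinearMap.coe_comp]
    exact (hπC x).comp (DevLib.coker_surjective s x)
  have hN : Coh.IsCoh (kernel q) := (QCohLib.isCoh_kernel_cokernel q hLc hCc).1
  haveI : Nontrivial (Coh.HH X (kernel q) 1) := by
    by_contra h
    rw [not_nontrivial_iff_subsingleton] at h
    obtain ⟨w, hw'⟩ := H1ZeroLib.surjective_H0 (k := k) q hq (hMap (k := k) πC 0 e₁)
    rw [VBLib.Dual.hMap_comp] at hw'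
    refine he₁ ?_
    rw [← sub_add_cancel e₁ (hMap (k := k) π 0 w)]
    exact V.add_mem (hkerC _ (by rw [map_sub, hw', sub_self])) ⟨w, rfl⟩
  have hlt := SingRRLib.euler_lt_genus k hdim hN hL (kernel.ι q)
  have hes := euler_shortExact (K := k) (H1ZeroLib.kerSeq_shortExact q hq) hN hLc hCc
  change Curv2.euler k X L = Curv2.euler k X (kernel q) + Curv2.euler k X C at hes
  rw [SingRRLib.euler_eq_deg k hdim h0, euler_of_dim_le_zero (k := k) hDc hsC hDd, hg] at hes
  haveI := EulerIneqLib.finite_HH (k := k) hCc 0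
  have hr := LinearMap.finrank_range_add_finrank_ker (hMap (k := k) πC 0)
  rw [LinearMap.range_eq_top.2 hsurjC, finrank_top] at hr
  have hpos : 0 < Module.finrank k (LinearMap.ker (hMap (k := k) πC 0)) := by
    refine Module.finrank_pos_iff_exists_ne_zero.2 ⟨⟨hMap (k := k) ρ' 0 tt, ?_⟩, fun h => hne (congrArg Subtype.val h)⟩
    rw [LinearMap.mem_ker, ← VBLib.Dual.hMap_comp, show ρ' ≫ πC = 0 from cokernel.condition ρ']
    exact (secOf C).injective (by rw [secOf_hMap, map_zero]; rfl)
  rw [hg] at hlt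
  push_cast at hes
  omega

end Groth.Agent.GenusOneLib
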